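import Groth.Agent.H8Props.FunDescent.GenericLimit
import Groth.Agent.H8Props.FibreCriterionLocal
import Groth.Agent.H06EGA9.QuotFlat
import Mathlib.RingTheory.Nakayama

/-!
# Freeness of a finitely presented relatively flat module is tested on fibres
-/

set_option autoImplicit false
set_option linter.style.haveILetI false

universe u

open CategoryTheory CategoryTheory.Limits AlgebraicGeometry TopologicalSpace TensorProduct

namespace Groth.Agent.H8Props.FreeLocus

section Algebra

variable {A R N : Type u} [CommRing A] [CommRing R] [IsLocalRing R]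
  [Algebra A R] [AddCommGroup N] [Module A N] [Module R N] [IsScalarTower A R N]
  [Module.FinitePresentation R N] [Module.Flat A N] (I : Ideal A)

/-- Elements which form a basis modulo `I` of a module flat over `A` form a basis. -/
theorem nonempty_basis (hI : I.map (algebraMap A R) ≤ IsLocalRing.maximalIdeal R) {p : ℕ}
    (v : Fin p → N) (hspan : ∀ n : N, ∃ c : Fin p → R, n - ∑ j, c j • v j ∈ I • (⊤ : Submodule A N))
    (hind : ∀ c : Fin p → R, ∑ j, c j • v j ∈ I • (⊤ : Submodule A N) →
      ∀ j, c j ∈ I.map (algebraMap A R)) :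
    Nonempty (Module.Basis (Fin p) R N) := by
  classical
  let J := I.map (algebraMap A R)
  have hjac : J ≤ Ideal.jacobson ⊥ := by
    rw [IsLocalRing.jacobson_eq_maximalIdeal ⊥ bot_ne_top]; exact hI
  let π : (Fin p → R) →ₗ[R] N := Fintype.linearCombination R v
  have hsub : ∀ n ∈ I • (⊤ : Submodule A N), n ∈ J • (⊤ : Submodule R N) := by
    intro n hn
    refine Submodule.smul_induction_on hn (fun a ha m _ => ?_) fun a b ha hb => add_mem ha hb
    rw [← algebraMap_smul R a m]
    exact Submodule.smul_mem_smul (Ideal.mem_map_of_mem _ ha) Submodule.mem_top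
  have hπ : Function.Surjective π := by
    rw [← LinearMap.range_eq_top, eq_top_iff]
    refine Submodule.le_of_le_smul_of_le_jacobson_bot Module.Finite.fg_top hjac fun n _ => ?_
    obtain ⟨c, hc⟩ := hspan n
    refine Submodule.mem_sup.2 ⟨π c, ⟨c, rfl⟩, n - π c, hsub _ ?_, add_sub_cancel _ _⟩
    rwa [Fintype.linearCombination_apply]
  let K := LinearMap.ker π
  have hK : K.FG := Module.FinitePresentation.fg_ker π hπ
  have hex : Function.Exact (K.subtype.restrictScalars A) (π.restrictScalars A) :=
    LinearMap.exact_subtype_ker_map π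
  have hlt := lTensor_exact (R := A) I hex (show Function.Surjective (π.restrictScalars A) from hπ)
  let ev : I ⊗[A] (Fin p → R) →ₗ[A] (Fin p → R) :=
    (TensorProduct.lid A (Fin p → R)).toLinearMap ∘ₗ LinearMap.rTensor _ I.subtype
  have hev : ∀ (a : I) (x : Fin p → R), ev (a ⊗ₜ x) = (a : A) • x := fun a x => by simp [ev]
  have hrange : ∀ k : Fin p → R, (∀ j, k j ∈ J) → ∃ w, ev w = k := by
    have single : ∀ z ∈ J, ∀ (j : Fin p) (r : R), ∃ w, ev w = Pi.single j (r * z) := by
      intro z hz
      induction hz using Submodule.span_induction with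
      | mem z hz =>
        obtain ⟨a, ha, rfl⟩ := hz
        intro j r
        refine ⟨(⟨a, ha⟩ : I) ⊗ₜ Pi.single j r, ?_⟩
        rw [hev, ← Pi.single_smul, Algebra.smul_def, mul_comm]
      | zero => exact fun j r => ⟨0, by simp⟩
      | add a b _ _ iha ihb =>
        intro j r
        obtain ⟨w, hw⟩ := iha j r
        obtain ⟨w', hw'⟩ := ihb j r
        exact ⟨w + w', by rw [map_add, hw, hw', mul_add, Pi.single_add]⟩
      | smul s a _ iha =>
        intro j r
        obtain ⟨w, hw⟩ := iha j (r * s)
        exact ⟨w, by rw [hw, smul_eq_mul, mul_assoc]⟩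
    intro k hk
    choose w hw using fun j => single (k j) (hk j) j 1
    refine ⟨∑ j, w j, ?_⟩
    rw [map_sum, Finset.sum_congr rfl fun j _ => hw j]
    simp only [one_mul]
    exact Finset.univ_sum_single k
  have hKJ : K ≤ J • K := by
    intro k hk
    have hk0 : π k = 0 := hk
    obtain ⟨w, hw⟩ := hrange k fun j => hind k (by
      rw [← Fintype.linearCombination_apply R v k]
      show π k ∈ _
      rw [hk0]; exact zero_mem _) j
    have h0 : LinearMap.lTensor I (π.restrictScalars A) w = 0 := by
      apply Module.Flat.rTensor_preserves_injective_linearMap (M := N) _ I.injective_subtype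
      apply (TensorProduct.lid A N).injective
      have key : ∀ w, TensorProduct.lid A N (LinearMap.rTensor N I.subtype
          (LinearMap.lTensor I (π.restrictScalars A) w)) = π (ev w) := by
        intro w
        induction w with
        | zero => simp
        | add a b ha hb => simp only [map_add, ha, hb]
        | tmul a x =>
          rw [hev, ← algebraMap_smul R (a : A) x, map_smul, algebraMap_smul]
          simp
      rw [key, hw, hk0, map_zero, map_zero]
    obtain ⟨w', rfl⟩ := (hlt w).1 h0
    rw [← hw]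
    have key : ∀ w', ev (LinearMap.lTensor I (K.subtype.restrictScalars A) w') ∈ J • K := by
      intro w'
      induction w' with
      | zero => simp
      | add a b ha hb => simp only [map_add]; exact add_mem ha hb
      | tmul a x =>
        rw [LinearMap.lTensor_tmul, hev, ← algebraMap_smul R (a : A)]
        exact Submodule.smul_mem_smul (Ideal.mem_map_of_mem _ a.2) x.2
    exact key w'
  have hbot : K = ⊥ := Submodule.eq_bot_of_le_smul_of_le_jacobson_bot J K hK hKJ hjac
  exact ⟨Module.Basis.ofEquivFun (LinearEquiv.ofBijective π ⟨LinearMap.ker_eq_bot.1 hbot, hπ⟩).symm⟩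

end Algebra

open FunDescent H06Mod H29Fitt

attribute [local instance] stalkAlgebra

variable {X S : Scheme.{u}} (f : X ⟶ S) (F : X.Modules)

theorem finitePresentation_stalk (hFP : CohB1.IsFP F) (x : X) :
    Module.FinitePresentation (X.presheaf.stalk x) (F.presheaf.stalk x) := by
  have hF : Coh.IsQCoh F := H29Fitt.isQCoh_of_isFP F hFP
  obtain ⟨_, ⟨V, hV, rfl⟩, hxV, -⟩ :=
    X.isBasis_affineOpens.exists_subset_of_mem_open (Set.mem_univ x) isOpen_univ
  letI := TopCat.Presheaf.algebra_section_stalk X.presheaf (⟨x, hxV⟩ : V)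
  letI := Module.compHom (F.presheaf.stalk x) (algebraMap Γ(X, V) (X.presheaf.stalk x))
  haveI : IsScalarTower Γ(X, V) (X.presheaf.stalk x) (F.presheaf.stalk x) :=
    .of_algebraMap_smul fun _ _ => rfl
  haveI : IsLocalization (hV.primeIdealOf ⟨x, hxV⟩).asIdeal.primeCompl (X.presheaf.stalk x) :=
    hV.isLocalization_stalk ⟨x, hxV⟩
  haveI : IsLocalizedModule (hV.primeIdealOf ⟨x, hxV⟩).asIdeal.primeCompl (germLin F (⟨x, hxV⟩ : V)) :=
    isLocalizedModule_germLin F hF hV ⟨x, hxV⟩
  haveI := FinLocFree.finitePresentation_sections F hFP hV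
  exact FinitePresentation.of_isBaseChange (germLin F (⟨x, hxV⟩ : V))
    ((isLocalizedModule_iff_isBaseChange (hV.primeIdealOf ⟨x, hxV⟩).asIdeal.primeCompl
      (X.presheaf.stalk x) (germLin F (⟨x, hxV⟩ : V))).1 inferInstance)

/-- A flat finitely presented module with free restriction to the fibre has free stalk. -/
theorem stalkFree_of_fibre (hFP : CohB1.IsFP F) {s : S} {p : ℕ} (z : f.fiber s)
    (hfl : FlatMod.IsFlatOverAt f F (f.fiberι s z))
    (h : StalkFree ((Scheme.Modules.pullback (f.fiberι s)).obj F) p z) :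
    StalkFree F p (f.fiberι s z) := by
  obtain ⟨b⟩ := h
  let ι := f.fiberι s
  let x := ι z
  haveI := finitePresentation_stalk F hFP x
  letI := FlatMod.moduleStalkOver f F x
  letI := (f.stalkMap x).hom.toAlgebra
  haveI : IsScalarTower (S.presheaf.stalk (f x)) (X.presheaf.stalk x) (F.presheaf.stalk x) :=
    .of_algebraMap_smul fun _ _ => rfl
  haveI : Module.Flat (S.presheaf.stalk (f x)) (F.presheaf.stalk x) := hfl
  let I := IsLocalRing.maximalIdeal (S.presheaf.stalk (f x))
  have hs : f x = s := (f.range_fiberι s).subset (Set.mem_range_self z)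
  have hsurj : Function.Surjective (algebraMap (X.presheaf.stalk x) ((f.fiber s).presheaf.stalk z)) :=
    ι.stalkMap_surjective z
  have hker : RingHom.ker (algebraMap (X.presheaf.stalk x) ((f.fiber s).presheaf.stalk z)) =
      I.map (algebraMap (S.presheaf.stalk (f x)) (X.presheaf.stalk x)) := by
    have e : FibreStalk.toFibre f x s z rfl = ι.stalkMap z := by
      simp only [FibreStalk.toFibre, TopCat.Presheaf.stalkCongr_hom,
        TopCat.Presheaf.stalkSpecializes_refl]
      exact Category.id_comp _
    show RingHom.ker (ι.stalkMap z).hom = _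
    rw [← e, FibreCriterion.ker_toFibre_of_eq f x s hs z rfl]
    rfl
  let e := pullStalkEquiv ι F z
  have hsur' : ∀ t : (f.fiber s).presheaf.stalk z ⊗[X.presheaf.stalk (ι.base z)] F.presheaf.stalk (ι.base z),
      ∃ n, (1 : (f.fiber s).presheaf.stalk z) ⊗ₜ[X.presheaf.stalk (ι.base z)] n = t := by
    intro t
    induction t with
    | zero => exact ⟨0, TensorProduct.tmul_zero _ _⟩
    | add a b ha hb =>
      obtain ⟨a, rfl⟩ := ha
      obtain ⟨b, rfl⟩ := hb
      exact ⟨a + b, TensorProduct.tmul_add _ _ _⟩
    | tmul r n =>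
      obtain ⟨r, rfl⟩ := hsurj r
      exact ⟨r • n, by rw [TensorProduct.tmul_smul, ← algebraMap_smul ((f.fiber s).presheaf.stalk z) r,
        TensorProduct.smul_tmul', smul_eq_mul, mul_one]⟩
  choose v hv using fun j => hsur' (e.symm (b j))
  have hI : I.map (algebraMap (S.presheaf.stalk (f x)) (X.presheaf.stalk x)) ≤
      IsLocalRing.maximalIdeal (X.presheaf.stalk x) :=
    Ideal.map_le_iff_le_comap.2 fun a ha => by
      rw [Ideal.mem_comap]
      exact (IsLocalRing.mem_maximalIdeal _).2 (map_nonunit (f.stalkMap x).hom a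
        ((IsLocalRing.mem_maximalIdeal _).1 ha))
  have hcomb : ∀ c : Fin p → X.presheaf.stalk x,
      e ((1 : (f.fiber s).presheaf.stalk z) ⊗ₜ[X.presheaf.stalk (ι.base z)] (∑ j, c j • v j)) =
        ∑ j, algebraMap (X.presheaf.stalk x) ((f.fiber s).presheaf.stalk z) (c j) • b j := fun c => by
    rw [TensorProduct.tmul_sum, map_sum]
    refine Finset.sum_congr rfl fun j _ => ?_
    rw [TensorProduct.tmul_smul, hv, ← algebraMap_smul ((f.fiber s).presheaf.stalk z) (c j),
      map_smul, LinearEquiv.apply_symm_apply]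
  refine nonempty_basis I hI v (fun n => ?_) (fun c hc j => ?_)
  · choose c hc using fun j =>
      hsurj (b.repr (e ((1 : (f.fiber s).presheaf.stalk z) ⊗ₜ[X.presheaf.stalk (ι.base z)] n)) j)
    refine ⟨c, (H06EGA9.one_tmul_eq_zero_iff I hsurj hker _).1 (e.injective ?_)⟩
    rw [TensorProduct.tmul_sub, map_sub, map_zero, hcomb, Finset.sum_congr rfl fun j _ => by rw [hc j],
      b.sum_repr, sub_self]
  · have h0 := congrArg e ((H06EGA9.one_tmul_eq_zero_iff I hsurj hker _).2 hc)
    rw [hcomb, map_zero] at h0
    rw [← hker, RingHom.mem_ker]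
    exact Fintype.linearIndependent_iff.1 b.linearIndependent _ h0 j

/-- The free locus of a flat finitely presented module commutes with base change. -/
theorem stalkFree_of_baseChange {X' S' : Scheme.{u}} {g : S' ⟶ S} {f' : X' ⟶ S'} {g' : X' ⟶ X}
    (hFP : CohB1.IsFP F) (hc : IsPullback g' f' f g) {p : ℕ} {x' : X'}
    (hfl : FlatMod.IsFlatOverAt f F (g' x'))
    (h : StalkFree ((Scheme.Modules.pullback g').obj F) p x') : StalkFree F p (g' x') := by
  let y' := f' x'
  let φ : f'.fiber y' ⟶ f.fiber (g y') := pullback.map _ _ _ _ g' (Spec.map (g.residueFieldMap y')) g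
    hc.w.symm (Scheme.Hom.SpecMap_residueFieldMap_fromSpecResidueField g y').symm
  haveI : Flat (Spec.map (g.residueFieldMap y')) := by
    rw [HasRingHomProperty.Spec_iff (P := @Flat)]
    letI := (g.residueFieldMap y').hom.toAlgebra
    show Module.Flat (S.residueField (g y')) (S'.residueField y')
    infer_instance
  haveI : Flat φ := MorphismProperty.of_isPullback
    (isPullback_fiberToSpecResidueField_of_isPullback hc y').flip ‹_›
  let z' := f'.asFiber x'
  have hfac : φ ≫ f.fiberι (g y') = f'.fiberι y' ≫ g' := pullback.lift_fst _ _ _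
  have hz : f.fiberι (g y') (φ z') = g' x' := by
    rw [← Scheme.Hom.comp_apply, hfac, Scheme.Hom.comp_apply]
    exact congrArg g' (f'.fiberι_asFiber x')
  have hF : Coh.IsQCoh F := H29Fitt.isQCoh_of_isFP F hFP
  let iso : (Scheme.Modules.pullback (f'.fiberι y')).obj ((Scheme.Modules.pullback g').obj F) ≅
      (Scheme.Modules.pullback φ).obj ((Scheme.Modules.pullback (f.fiberι (g y'))).obj F) :=
    (Scheme.Modules.pullbackComp _ _).app F ≪≫ (Scheme.Modules.pullbackCongr hfac.symm).app F ≪≫
      ((Scheme.Modules.pullbackComp _ _).app F).symm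
  have hz' : StalkFree ((Scheme.Modules.pullback g').obj F) p (f'.fiberι y' z') :=
    (f'.fiberι_asFiber x').symm ▸ h
  have h1 := stalkFree_of_pullback φ _ (H29Fitt.isQCoh_pullback _ F hF)
    (H29Fitt.isFT_pullback _ F hF (H29Fitt.isFT_of_isFP F hFP))
    (stalkFree_iso iso (stalkFree_pullback (f'.fiberι y') _ hz'))
  rw [← hz]
  exact stalkFree_of_fibre f F hFP _ (hz.symm ▸ hfl) h1

theorem free_stalk_iff_exists_stalkFree (hFT : CohB1.IsFT F) (hF : Coh.IsQCoh F) (x : X) :
    Module.Free (X.presheaf.stalk x) (F.presheaf.stalk x) ↔ ∃ p, StalkFree F p x := by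
  haveI := finite_stalk_of_isFT F hF hFT x
  exact ⟨fun h => ⟨_, ⟨Module.finBasis (X.presheaf.stalk x) (F.presheaf.stalk x)⟩⟩,
    fun ⟨p, ⟨b⟩⟩ => Module.Free.of_basis b⟩

end Groth.Agent.H8Props.FreeLocus
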