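import Groth.Agent.H8Props.FinLocFree.Fibre
import Groth.Agent.H8Props.FunDescent.GenericLimit
import Groth.Agent.H06EGA9.FlatLocallyConstructible
import Groth.Agent.H06EGA9.FibreMap
import Groth.Agent.H29Fitt.Comap
import Mathlib.RingTheory.Spectrum.Prime.ConstructibleSet

/-!
# Local freeness on fibres is a constructible condition (EGA IV 9.4.7)
-/

set_option autoImplicit false
set_option linter.style.haveILetI false

universe u

open CategoryTheory CategoryTheory.Limits AlgebraicGeometry TopologicalSpace Topology TensorProduct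

namespace Groth.Agent.H8Props.FreeLocus

variable {X S : Scheme.{u}}

theorem isFinLocFree_fibre_iff_forall (f : X ⟶ S) (F : X.Modules) (hFP : CohB1.IsFP F) (s : S) :
    FlatMod.IsFinLocFree ((Scheme.Modules.pullback (f.fiberι s)).obj F) ↔
      f ⁻¹' {s} ⊆ {x : X | H06EGA9.FibFlatAt (𝟙 X) f F x} := by
  have hP : IsPullback (f.fiberι s) (f.fiberToSpecResidueField s) f (S.fromSpecResidueField s) :=
    IsPullback.of_hasPullback _ _
  have hX : IsPullback (f.fiberι s) (𝟙 (f.fiber s)) (𝟙 X) (f.fiberι s) :=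
    IsPullback.of_vert_isIso ⟨by simp⟩
  have hFP' := H06EGA9.isFP_pullback (f.fiberι s) hFP
  have hq : Coh.IsQCoh ((Scheme.Modules.pullback (f.fiberι s)).obj F) :=
    H29Fitt.isQCoh_of_isFP _ hFP'
  constructor
  · intro h x hx
    obtain ⟨z, rfl⟩ : x ∈ Set.range (f.fiberι s) := by rw [f.range_fiberι]; exact hx
    exact (H06EGA9.isFlatOverAt_fibre_iff hP hX F z).1
      ((FinLocFree.isFlatOverAt_id_iff _ z).2 (FinLocFree.isFlatAt_of_isFinLocFree _ h z))
  · intro h
    refine FinLocFree.isFinLocFree_of_flat_of_isFP _ hq (fun z => ?_) hFP'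
    exact (FinLocFree.isFlatOverAt_id_iff _ z).1 ((H06EGA9.isFlatOverAt_fibre_iff hP hX F z).2
      (h ((f.range_fiberι s).subset (Set.mem_range_self z))))

theorem isLocallyConstructible_setOf_fibre_isFinLocFree (f : X ⟶ S) [LocallyOfFinitePresentation f]
    [QuasiCompact f] (F : X.Modules) (hFP : CohB1.IsFP F) :
    IsLocallyConstructible
      {s : S | FlatMod.IsFinLocFree ((Scheme.Modules.pullback (f.fiberι s)).obj F)} := by
  haveI : LocallyOfFinitePresentation (𝟙 X ≫ f) := by rw [Category.id_comp]; infer_instance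
  simpa only [isFinLocFree_fibre_iff_forall f F hFP] using
    H06EGA9.isLocallyConstructible_setOf_fibre_subset f
      (H06EGA9.isLocallyConstructible_fibFlatAt (𝟙 X) f hFP)

/-- The locus where the fibres of a module have rank `n`. -/
def rankSet (F : X.Modules) (n : ℕ) : Set X :=
  {x | x ∉ (Fitt.sheafIdeal F n).support ∧ ∀ k : Fin n, x ∈ (Fitt.sheafIdeal F k).support}

theorem isLocallyConstructible_support (F : X.Modules) (hFP : CohB1.IsFP F) (k : ℕ) :
    IsLocallyConstructible ((Fitt.sheafIdeal F k).support : Set X) := by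
  have hF := H29Fitt.isQCoh_of_isFP F hFP
  refine H06EGA9.isLocallyConstructible_of_charts fun x => ?_
  obtain ⟨_, ⟨U, hU : IsAffineOpen U, rfl⟩, hxU, -⟩ :=
    X.isBasis_affineOpens.exists_subset_of_mem_open (Set.mem_univ x) isOpen_univ
  haveI := hU.isOpenImmersion_fromSpec
  refine ⟨_, hU.fromSpec, inferInstance, hU.range_fromSpec.ge hxU, ?_⟩
  haveI := FinLocFree.finitePresentation_sections F hFP hU
  have hfg : (Fitt.ideal Γ(X, U) Γ(F, U) k).FG := H29Fitt.ideal_fg k
  have e : hU.fromSpec ⁻¹' ((Fitt.sheafIdeal F k).support : Set X) =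
      (PrimeSpectrum.zeroLocus (Fitt.ideal Γ(X, U) Γ(F, U) k : Set Γ(X, U)) :
        Set (PrimeSpectrum Γ(X, U))) := by
    refine Set.ext fun (P : PrimeSpectrum Γ(X, U)) => ?_
    have hm : hU.fromSpec P ∈ U := hU.range_fromSpec.subset ⟨P, rfl⟩
    have hP : hU.primeIdealOf ⟨_, hm⟩ = P :=
      hU.fromSpec.isOpenEmbedding.injective (hU.fromSpec_primeIdealOf _)
    rw [Set.mem_preimage, SetLike.mem_coe,
      H29Fitt.mem_support_iff F hF (H29Fitt.isFT_of_isFP F hFP) k hU ⟨_, hm⟩, hP]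
    rfl
  rw [e, ← isConstructible_compl]
  exact (PrimeSpectrum.isRetrocompact_zeroLocus_compl_of_fg hfg).isConstructible
    (PrimeSpectrum.isClosed_zeroLocus _).isOpen_compl

theorem isLocallyConstructible_compl {E : Set X} (h : IsLocallyConstructible E) :
    IsLocallyConstructible Eᶜ := fun x => by
  obtain ⟨U, hU, hUo, hc⟩ := h x
  exact ⟨U, hU, hUo, hc.compl⟩

theorem isLocallyConstructible_rankSet (F : X.Modules) (hFP : CohB1.IsFP F) (n : ℕ) :
    IsLocallyConstructible (rankSet F n) := by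
  have h := (isLocallyConstructible_compl (isLocallyConstructible_support F hFP n)).inter
    (IsLocallyConstructible.iInter fun k : Fin n => isLocallyConstructible_support F hFP k)
  refine Eq.mpr (congrArg IsLocallyConstructible (Set.ext fun x => ?_)) h
  simp [rankSet]

theorem mem_rankSet_of_isFreeOfRankNear (F : X.Modules) (hFP : CohB1.IsFP F) {r : ℕ} {x : X}
    (h : FlatFun.IsFreeOfRankNear F r x) (n : ℕ) : x ∈ rankSet F n ↔ r = n := by
  have hF := H29Fitt.isQCoh_of_isFP F hFP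
  have hFT := H29Fitt.isFT_of_isFP F hFP
  obtain ⟨W, hxW, ⟨e⟩⟩ := h
  obtain ⟨_, ⟨V, hV : IsAffineOpen V, rfl⟩, hxV, hle⟩ :=
    X.isBasis_affineOpens.exists_subset_of_mem_open hxW W.isOpen
  obtain ⟨b⟩ := FinLocFree.exists_basis_of_chart F e (V := V) hle
  haveI := Module.Free.of_basis b
  haveI := Module.Finite.of_basis b
  let P := (hV.primeIdealOf ⟨x, hxV⟩).asIdeal
  have hk : ∀ k, x ∈ (Fitt.sheafIdeal F k).support ↔ k < r := fun k => by
    rw [H29Fitt.mem_support_iff F hF hFT k hV ⟨x, hxV⟩, ← not_le,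
      ← not_iff_not, not_not, H29Fitt.not_le_prime_iff_finrank_le]
    haveI : Nontrivial Γ(X, V) := nontrivial_of_ne 0 1 fun h01 =>
      (hV.primeIdealOf ⟨x, hxV⟩).2.ne_top ((Ideal.eq_top_iff_one _).2 (h01 ▸ zero_mem _))
    rw [Module.finrank_baseChange, Module.finrank_eq_card_basis b, Fintype.card_fin]
  simp only [rankSet, Set.mem_ofPred_eq, hk]
  constructor
  · rintro ⟨h1, h2⟩
    rcases lt_trichotomy r n with h | h | h
    · exact absurd (h2 ⟨r, h⟩) (lt_irrefl r)
    · exact h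
    · exact absurd h h1
  · rintro rfl
    exact ⟨lt_irrefl r, fun k => k.2⟩

theorem mem_rankSet_pullback {Y : Scheme.{u}} (g : Y ⟶ X) (F : X.Modules) (hFP : CohB1.IsFP F)
    (n : ℕ) (y : Y) :
    y ∈ rankSet ((Scheme.Modules.pullback g).obj F) n ↔ g y ∈ rankSet F n := by
  have hF := H29Fitt.isQCoh_of_isFP F hFP
  have hFT := H29Fitt.isFT_of_isFP F hFP
  have h : ∀ k, y ∈ (Fitt.sheafIdeal ((Scheme.Modules.pullback g).obj F) k).support ↔
      g y ∈ (Fitt.sheafIdeal F k).support := fun k => by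
    rw [← H29Fitt.sheafIdeal_comap g F hF hFT k, Scheme.IdealSheafData.support_comap]
    rfl
  simp only [rankSet, Set.mem_ofPred_eq, h]

theorem isFinLocFreeOfRank_fibre_iff (f : X ⟶ S) (F : X.Modules) (hFP : CohB1.IsFP F) (n : ℕ) (s : S) :
    FlatMod.IsFinLocFreeOfRank n ((Scheme.Modules.pullback (f.fiberι s)).obj F) ↔
      f ⁻¹' {s} ⊆ {x : X | H06EGA9.FibFlatAt (𝟙 X) f F x} ∩ rankSet F n := by
  rw [Set.subset_inter_iff, ← isFinLocFree_fibre_iff_forall f F hFP]
  have hFP' := H06EGA9.isFP_pullback (f.fiberι s) hFP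
  constructor
  · intro h
    refine ⟨fun z => ?_, fun x hx => ?_⟩
    · obtain ⟨U, hzU, e⟩ := h z
      exact ⟨U, n, hzU, e⟩
    · obtain ⟨z, rfl⟩ : x ∈ Set.range (f.fiberι s) := by rw [f.range_fiberι]; exact hx
      obtain ⟨U, hzU, e⟩ := h z
      exact (mem_rankSet_pullback _ F hFP n z).1
        ((mem_rankSet_of_isFreeOfRankNear _ hFP' ⟨U, hzU, e⟩ n).2 rfl)
  · rintro ⟨h, hr⟩ z
    obtain ⟨U, r, hzU, e⟩ := h z
    have h1 : z ∈ rankSet ((Scheme.Modules.pullback (f.fiberι s)).obj F) n :=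
      (mem_rankSet_pullback _ F hFP n z).2 (hr ((f.range_fiberι s).subset (Set.mem_range_self z)))
    obtain rfl := (mem_rankSet_of_isFreeOfRankNear _ hFP' ⟨U, hzU, e⟩ n).1 h1
    exact ⟨U, hzU, e⟩

theorem isLocallyConstructible_setOf_fibre_isFinLocFreeOfRank (f : X ⟶ S)
    [LocallyOfFinitePresentation f] [QuasiCompact f] (F : X.Modules) (hFP : CohB1.IsFP F) (n : ℕ) :
    IsLocallyConstructible
      {s : S | FlatMod.IsFinLocFreeOfRank n ((Scheme.Modules.pullback (f.fiberι s)).obj F)} := by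
  haveI : LocallyOfFinitePresentation (𝟙 X ≫ f) := by rw [Category.id_comp]; infer_instance
  simpa only [isFinLocFreeOfRank_fibre_iff f F hFP] using
    H06EGA9.isLocallyConstructible_setOf_fibre_subset f
      ((H06EGA9.isLocallyConstructible_fibFlatAt (𝟙 X) f hFP).inter (isLocallyConstructible_rankSet F hFP n))

end Groth.Agent.H8Props.FreeLocus
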